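import Cfsg.Agent.TH.Cl.Basic
import Cfsg.Agent.SB.Tor.Refl

/-!
# S3541, classical socles: frames moved by one reflection (helper33)

* `mem_H` : `H` is the full stabiliser of the frame; `key` : the product trick for two points `ρ D`, `ρ' D`.
* `LA h D v` : no monomial element `w` has `v ∈ im (w - 1) ≤ ⟨v, v'⟩`; true if `v` has five non-zero components (`la5`), or three
  if all blocks have rank at least two (`la3`); `fix_of` : then the stabiliser of `D` and `r_v D` fixes the line of `v`.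
-/

set_option autoImplicit false
set_option linter.unusedSectionVars false
set_option maxHeartbeats 400000

namespace Cfsg.Agent.TH.Cl.TorO

open Cfsg.Agent.DS.Cl Cfsg.Agent.DS.Cl.Fwd Cfsg.Agent.SB.Tor Module

section ring

variable {A : Type} [Ring A] [StarRing A] [Finite A] {F : FR A} {G H : Subgroup (RingAut A)} {m p : ℕ} {D : Finset A}

theorem mem_St {γ : RingAut A} (h1 : γ ∈ F.Aut) (h2 : ∀ e ∈ D, γ e ∈ D) : γ ∈ St F D :=
  le_St (S := SB.Cl.stab F (D : Set A)) (fun _ h => h.1) (SB.Cl.inv_stab F _) ⟨h1, h2⟩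

/-- `x ∈ S` moves the frame `D` as `ρ` does -/
structure Pt (F : FR A) (D : Finset A) (ρ : Aˣ) (x : RingAut A) : Prop where
  mem : x ∈ F.S
  st : x⁻¹ * DS.Cl.cj A ρ ∈ St F D

theorem Pt.to {ρ : Aˣ} {x s : RingAut A} (hx : Pt F D ρ x) (hs : x⁻¹ * s * x ∈ St F D) :
    (DS.Cl.cj A ρ)⁻¹ * s * DS.Cl.cj A ρ ∈ St F D := by
  have h1 := mul_mem (mul_mem (inv_mem hx.st) hs) hx.st
  convert h1 using 1
  group

theorem Pt.of_fix {ρ : Aˣ} {x s : RingAut A} (hx : Pt F D ρ x) (hs : s ∈ St F D) (h : s ρ = ρ) :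
    x⁻¹ * s * x ∈ St F D := by
  have h1 : s * DS.Cl.cj A ρ * s⁻¹ = DS.Cl.cj A ρ := by rw [conj_cj, show um s ρ = ρ from Units.ext h]
  have h2 := mul_mem (mul_mem hx.st hs) (inv_mem hx.st)
  convert h2 using 1
  conv_rhs => rw [mul_assoc x⁻¹, ← mul_inv_eq_iff_eq_mul.1 h1]
  group

theorem Pt.not_mem {ρ : Aˣ} {x : RingAut A} (hx : Pt F D ρ x) (h0 : DS.Cl.cj A ρ ∉ St F D) : x ∉ St F D := fun h =>
  h0 (by simpa using mul_mem h hx.st)

/-- `H` is the full stabiliser of the frame -/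
theorem mem_H (c : Ctx F G H m p) (hI : Inv H D) (hS : ¬ F.S ≤ St F D) {g : RingAut A} (hg : g ∈ G) (h : g ∈ St F D) :
    g ∈ H := by
  rw [← c.max (M := G ⊓ St F D) (le_inf c.H_le (le_St c.H_le_Aut hI)) inf_le_left fun h1 => hS (h1.trans inf_le_right)]
  exact ⟨hg, h⟩

theorem relIndex_stab (K : Subgroup (RingAut A)) (a : A) :
    (MulAction.stabilizer (RingAut A) a).relIndex K = (MulAction.orbit K a).ncard :=
  MulAction.index_stabilizer K a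

/-- **the product trick for two moved frames** -/
theorem key (c : Ctx F G H m p) (hI : Inv H D) {ρ ρ' : Aˣ} {x x' : RingAut A} (hx : Pt F D ρ x) (hx' : Pt F D ρ' x')
    (h0 : DS.Cl.cj A ρ ∉ St F D) (h0' : DS.Cl.cj A ρ' ∉ St F D)
    (hfix : ∀ γ ∈ St F D, (DS.Cl.cj A ρ')⁻¹ * γ * DS.Cl.cj A ρ' ∈ St F D → γ ρ' = ρ')
    {E : A} {X : Finset A} (hX : ∀ γ ∈ St F D, γ ρ' = ρ' → γ E ∈ X)
    (hE : ∀ γ : RingAut A, γ ρ' = ρ' → γ E = E → γ ρ = ρ) {ι : Type} [Fintype ι] {y : ι → A}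
    (hy : Function.Injective y) (hs : ∀ i, ∃ s ∈ F.S, s ∈ St F D ∧ s ρ = ρ ∧ s ρ' = y i) :
    Fintype.card ι ≤ X.card := by
  have hH : H ≤ St F D := le_St c.H_le_Aut hI
  have hS : ¬ F.S ≤ St F D := fun h => hx.not_mem h0 (h hx.mem)
  have hG := c.S_le hx.mem
  have hG' := c.S_le hx'.mem
  have h1 : ∀ γ ∈ H, γ ρ = ρ → γ ∈ TH.cj x H := fun γ hγ h => mem_cj.2
    (mem_H c hI hS (mul_mem (mul_mem (inv_mem hG) (c.H_le hγ)) hG) (hx.of_fix (hH hγ) h))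
  have h2 : ∀ γ ∈ H, γ ∈ TH.cj x' H → γ ρ' = ρ' := fun γ hγ h => hfix γ (hH hγ) (hx'.to (hH (mem_cj.1 h)))
  have h3 := c.in.product (L := MulAction.stabilizer (RingAut A) E ⊓ (H ⊓ TH.cj x' H)) (g₂ := x') (j := X.card) hG
    (fun h => hx.not_mem h0 (hH h)) hG' (fun h => hx'.not_mem h0' (hH h)) inf_le_right
    (fun γ hγ => h1 γ hγ.2.1 (hE γ (h2 γ hγ.2.1 hγ.2.2) hγ.1)) (fun γ hγ => hγ.2.2) (by
      rw [Subgroup.inf_relIndex_right, relIndex_stab, ← Set.ncard_coe_finset]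
      refine Set.ncard_le_ncard ?_ X.finite_toSet
      rintro _ ⟨γ, rfl⟩
      exact hX γ (hH γ.2.1) (h2 γ γ.2.1 γ.2.2))
  have h4 : (MulAction.stabilizer (RingAut A) (ρ' : A)).relIndex (H ⊓ TH.cj x H) ≤
      (TH.cj x' H).relIndex (H ⊓ TH.cj x H) := by
    rw [← Subgroup.inf_relIndex_right (TH.cj x' H)]
    exact Subgroup.relIndex_le_of_le_left (fun γ hγ => h2 γ hγ.2.1 hγ.1) Subgroup.FiniteIndex.index_ne_zero
  refine le_trans ?_ (h4.trans h3)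
  rw [relIndex_stab, ← Nat.card_eq_fintype_card, ← Set.ncard_range_of_injective hy]
  refine Set.ncard_le_ncard ?_ (Set.toFinite _)
  rintro _ ⟨i, rfl⟩
  obtain ⟨s, a1, a2, a3, a4⟩ := hs i
  have a5 := mem_H c hI hS (c.S_le a1) a2
  exact ⟨⟨s, a5, h1 s a5 a3⟩, a4⟩

end ring

variable {K V : Type} [Field K] [Finite K] [AddCommGroup V] [Module K V] [Finite V] {h : HF K V} {D : Finset h.EB}

/-- no monomial element `w` has `v ∈ im (w - 1) ≤ ⟨v, v'⟩` -/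
def LA (h : HF K V) (D : Finset h.EB) (v : V) : Prop :=
  ∀ (v' : V) (w : h.EBˣ), (∀ e ∈ D, DS.Cl.cj h.EB w e ∈ D) → (∀ x, ∃ a b : K, h.ap w x - x = a • v + b • v') →
    (∃ x, h.ap w x - x = v) → False

theorem la3 (hD : Fr D) (hB : Big h D) {v : V} (h3 : Three h D v) : LA h D v := fun _ _ hw h1 h2 => la0 hD hB h3 hw h1 h2

theorem ap_cj (w : h.EBˣ) {e : h.EB} {x : V} (hx : h.ap e x = x) :
    h.ap (DS.Cl.cj h.EB w e) (h.ap w x) = h.ap w x := by rw [← h.ap_mul, cj_mul_eq, h.ap_mul, hx]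

theorem la5 (hD : Fr D) {v : V} {X : Finset h.EB} (hX : X ⊆ D) (h5 : 5 ≤ X.card) (hv : ∀ e ∈ X, h.ap e v ≠ 0) :
    LA h D v := by
  classical
  rintro v' w hw h1 ⟨x, hx⟩
  have k1 : ∀ e ∈ X, ∃ u, (∃ a b : K, u = a • v + b • v') ∧ h.ap e u ≠ 0 ∧
      ∀ f ∈ D, f ≠ e → f ≠ DS.Cl.cj h.EB w e → h.ap f u = 0 := by
    intro e he
    have he' := hX he
    obtain ⟨z, hz, hz'⟩ : ∃ z, h.ap e z = z ∧ h.ap w z ≠ z := by
      by_contra hcon
      push Not at hcon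
      have a1 : DS.Cl.cj h.EB w e = e := by
        by_contra a1
        obtain ⟨z, hz, hz0⟩ := exists_fix (hD.idem e he') (hD.ne e he')
        have a2 := ap_cj w hz
        rw [hcon z hz, Fr.ap_eq_zero h hD (hw e he') he' a1 hz] at a2
        exact hz0 a2.symm
      refine hv e he ?_
      rw [← hx, map_sub, ← h.ap_mul, ← a1, cj_mul_eq, a1, h.ap_mul, hcon _ (by rw [← h.ap_mul, hD.idem e he']), sub_self]
    refine ⟨h.ap w z - z, h1 z, ?_, fun f hf n1 n2 => ?_⟩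
    · by_cases a1 : DS.Cl.cj h.EB w e = e
      · have a2 := ap_cj w hz
        rw [a1] at a2
        rwa [map_sub, a2, hz, sub_ne_zero]
      · rw [map_sub, Fr.ap_eq_zero h hD he' (hw e he') (Ne.symm a1) (ap_cj w hz), hz, zero_sub, neg_ne_zero]
        rintro rfl
        exact hz' (map_zero _)
    · rw [map_sub, Fr.ap_eq_zero h hD hf (hw e he') n2 (ap_cj w hz), Fr.ap_eq_zero h hD hf he' n1 hz, sub_zero]
  have k2 : ∀ a b c d : h.EB, ∃ e ∈ X, e ≠ a ∧ e ≠ b ∧ e ≠ c ∧ e ≠ d := fun a b c d => by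
    by_contra hcon
    push Not at hcon
    have a1 : X ⊆ {a, b, c, d} := fun e he => by
      simp only [Finset.mem_insert, Finset.mem_singleton]
      by_contra a2
      push Not at a2
      exact a2.2.2.2 (hcon e he a2.1 a2.2.1 a2.2.2.1)
    have a2 := (Finset.card_le_card a1).trans Finset.card_le_four
    omega
  obtain ⟨e₁, m₁, -⟩ := k2 0 0 0 0
  obtain ⟨e₂, m₂, n₁, n₂, -⟩ := k2 e₁ (DS.Cl.cj h.EB w e₁) 0 0
  obtain ⟨e₃, m₃, n₃, n₄, n₅, n₆⟩ := k2 e₁ (DS.Cl.cj h.EB w e₁) e₂ (DS.Cl.cj h.EB w e₂)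
  obtain ⟨u₁, ⟨a₁, b₁, r₁⟩, p₁, q₁⟩ := k1 e₁ m₁
  obtain ⟨u₂, ⟨a₂, b₂, r₂⟩, p₂, q₂⟩ := k1 e₂ m₂
  obtain ⟨u₃, ⟨a₃, b₃, r₃⟩, p₃, -⟩ := k1 e₃ m₃
  have z₁ := q₁ e₂ (hX m₂) n₁ n₂
  have z₂ := q₁ e₃ (hX m₃) n₃ n₄
  have z₃ := q₂ e₃ (hX m₃) n₅ n₆
  have s₁ : (a₁ * b₂ - a₂ * b₁) • u₃ = (a₃ * b₂ - a₂ * b₃) • u₁ + (a₁ * b₃ - a₃ * b₁) • u₂ := by
    rw [r₁, r₂, r₃]; module
  have s₂ := congrArg (h.ap e₃) s₁
  rw [map_smul, map_add, map_smul, map_smul, z₂, z₃, smul_zero, smul_zero, add_zero, smul_eq_zero_iff_left p₃] at s₂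
  have s₃ : b₂ • u₁ - b₁ • u₂ = (a₁ * b₂ - a₂ * b₁) • v := by rw [r₁, r₂]; module
  have s₄ : a₁ • u₂ - a₂ • u₁ = (a₁ * b₂ - a₂ * b₁) • v' := by rw [r₁, r₂]; module
  rw [s₂, zero_smul] at s₃ s₄
  have s₅ := congrArg (h.ap e₂) s₃
  have s₆ := congrArg (h.ap e₂) s₄
  rw [map_sub, map_smul, map_smul, z₁, smul_zero, map_zero] at s₅ s₆
  rw [zero_sub, neg_eq_zero, smul_eq_zero_iff_left p₂] at s₅
  rw [sub_zero, smul_eq_zero_iff_left p₂] at s₆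
  rw [r₁, s₅, s₆, zero_smul, zero_smul, add_zero, map_zero] at p₁
  exact p₁ rfl

theorem LA.ne {v : V} (hl : LA h D v) : v ≠ 0 := by
  rintro rfl
  exact hl 0 1 (fun e he => by rwa [map_one, ra_one]) (fun x => ⟨0, 0, by simp [h.ap_one]⟩) ⟨0, by simp⟩

theorem LA.not_mem {F : FR h.EB} {v : V} (hl : LA h D v) {κ : K} (hκ : κ ≠ 0) {r : h.EBˣ} (hr : (r : h.EB) = qr h κ v) :
    DS.Cl.cj h.EB r ∉ St F D := fun h1 => by
  obtain ⟨u, hu⟩ := h.exists_ne hl.ne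
  refine hl 0 r (fun e he => St.mem h1 he) (fun x => ⟨-(κ * h.b x v), 0, by rw [hr, ap_qr]; module⟩)
    ⟨(-(κ * h.b u v))⁻¹ • u, ?_⟩
  rw [map_smul, ← smul_sub, hr, ap_qr, sub_sub_cancel_left, ← neg_smul, smul_smul,
    inv_mul_cancel₀ (neg_ne_zero.2 (mul_ne_zero hκ hu)), one_smul]

/-- the stabiliser of `D` and `r D` fixes the line of `v` -/
theorem fix_of {F : FR h.EB} {v : V} (hl : LA h D v) {κ : K} (hκ : κ ≠ 0) {r : h.EBˣ} (hr : (r : h.EB) = qr h κ v)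
    {γ : RingAut h.EB} (h1 : γ ∈ St F D) (h2 : (DS.Cl.cj h.EB r)⁻¹ * γ * DS.Cl.cj h.EB r ∈ St F D) (L : SL h γ) :
    ∃ c : K, L.g v = c • v := by
  by_contra hcon
  push Not at hcon
  have h4 : ∀ c : K, v ≠ c • L.g v := fun c hc => by
    have hc0 : c ≠ 0 := by
      rintro rfl
      exact hl.ne (by rw [hc, zero_smul])
    exact hcon c⁻¹ (by conv_rhs => rw [hc, smul_smul, inv_mul_cancel₀ hc0, one_smul])
  have h5 : DS.Cl.cj h.EB (r⁻¹ * um γ r) ∈ St F D := by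
    rw [map_mul, map_inv, ← conj_cj]
    simpa only [mul_assoc] using mul_mem h2 (inv_mem h1)
  have h6 : ∀ x, h.ap (r⁻¹ * um γ r : h.EBˣ) x - x = (κ * h.b (h.ap (r⁻¹ * um γ r : h.EBˣ) x) v) • v +
      (-(L.σ κ / L.μ * h.b x (L.g v))) • L.g v := fun x => by
    have h7 : h.ap r (h.ap (r⁻¹ * um γ r : h.EBˣ) x) = h.ap (γ r) x := by
      rw [Units.val_mul, h.ap_mul, ap_ap_inv, um_val]
    rw [hr, L.map_qr, ap_qr, ap_qr, sub_eq_iff_eq_add] at h7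
    conv_lhs => rw [h7]
    module
  refine hl _ _ (fun e he => St.mem h5 he) (fun x => ⟨_, _, h6 x⟩) ?_
  obtain ⟨y, hy, hy'⟩ := exists_sep (h := h) h4
  have h7 := h6 y
  rw [hy, mul_zero, neg_zero, zero_smul, add_zero] at h7
  have h8 : κ * h.b (h.ap (r⁻¹ * um γ r : h.EBˣ) y) v ≠ 0 := fun h0 => by
    rw [h0, zero_smul, sub_eq_zero] at h7
    rw [h7] at h0
    exact mul_ne_zero hκ hy' h0
  exact ⟨(κ * h.b (h.ap (r⁻¹ * um γ r : h.EBˣ) y) v)⁻¹ • y, by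
    rw [map_smul, ← smul_sub, h7, smul_smul, inv_mul_cancel₀ h8, one_smul]⟩

/-- a monomial quasi-reflection exchanges any two blocks of the support -/
theorem cj_eq_of_St {F : FR h.EB} (hD : Fr D) {v : V} {κ : K} (hκ : κ ≠ 0) {r : h.EBˣ} (hr : (r : h.EB) = qr h κ v)
    (h1 : DS.Cl.cj h.EB r ∈ St F D) {e f : h.EB} (he : e ∈ D) (hf : f ∈ D) (hef : f ≠ e) (h2 : h.ap e v ≠ 0)
    (h3 : h.ap f v ≠ 0) : f = DS.Cl.cj h.EB r e := by
  by_contra h4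
  obtain ⟨u, hu, hu'⟩ := Fr.exists_ne h hD he (v := h.ap e v) (by rw [← h.ap_mul, hD.idem e he]) h2
  rw [← hD.symm e he, h.b_star, hu] at hu'
  have h5 := Fr.ap_eq_zero h hD hf (St.mem h1 he) h4 (ap_cj r hu)
  rw [hr, ap_qr, map_sub, map_smul, Fr.ap_eq_zero h hD hf he hef hu, zero_sub, neg_eq_zero] at h5
  exact smul_ne_zero (mul_ne_zero hκ hu') h3 h5

end Cfsg.Agent.TH.Cl.TorO
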