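import Cfsg.Agent.TH.Cl.TorO.Odd
import Cfsg.Agent.SB.Fr.Vec

/-!
# S3541, orthogonal groups: the box `BoxTorO` (helper33)
-/

set_option autoImplicit false
set_option linter.unusedSectionVars false
set_option maxHeartbeats 400000

namespace Cfsg.Agent.TH.Cl.TorO

open Cfsg.Agent.DS.Cl Cfsg.Agent.DS.Cl.Fwd Cfsg.Agent.SB.Tor Module

variable {K V : Type} [Field K] [Finite K] [AddCommGroup V] [Module K V] [Finite V] {h : HF K V} {D : Finset h.EB}
  {F : FR h.EB} {Q : QuadraticForm K V} {G H : Subgroup (RingAut h.EB)} {m p : ℕ}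

/-- in characteristic two no element of `S` moves all vectors of a block to vectors with three components -/
theorem even_core (hO : SB.Cl.IsO h F Q) (c : Ctx F G H m p) (hD : Fr D) (hI : Inv H D) (h2 : (2 : K) = 0) (hB : Big h D)
    {E E' : h.EB} (hE : E ∈ D) (hE' : E' ∈ D) (hne : E ≠ E') {a b : V} (ha : h.ap E a = a) (hb : h.ap E' b = b)
    (hq : Q a = Q b) (h0 : Q a ≠ 0) {g : h.EBˣ} (hg : DS.Cl.cj h.EB g ∈ F.S)
    (h3 : ∀ x, h.ap E x = x → x ≠ 0 → Three h D (h.ap g x)) : False := by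
  have ha0 : a ≠ 0 := fun e => h0 (by rw [e, map_zero])
  have : Nontrivial V := ⟨_, _, ha0⟩
  have hH : H ≤ St F D := le_St c.H_le_Aut hI
  obtain ⟨r, hr⟩ := exists_rf hO h0
  obtain ⟨k, hk⟩ := exists_rf hO (hq ▸ h0 : Q b ≠ 0)
  have hp : p = 2 := by
    have a1 : (p : K) • a = 0 := by
      have a2 : h.ap (p : h.EB) a = p • a := Module.End.natCast_apply p a
      rw [Nat.cast_smul_eq_nsmul, ← a2, c.char, ap_zero]
    have : CharP K 2 := (CharP.charP_iff_prime_eq_zero Nat.prime_two).2 h2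
    exact ((Nat.prime_dvd_prime_iff_eq Nat.prime_two c.prime).1
      ((CharP.cast_eq_zero_iff K 2 p).1 ((smul_eq_zero_iff_left ha0).1 a1))).symm
  -- the conjugates of `r k`
  have key : ∀ (w : h.EBˣ) (κ κ' : K) (a' b' : V), (w : h.EB) = qr h κ a' * qr h κ' b' → κ ≠ 0 → h.ap E a' = a' →
      a' ≠ 0 → h.ap E' b' = b' → DS.Cl.cj h.EB (g * w * g⁻¹) ∉ St F D := by
    intro w κ κ' a' b' hw hκ a1 a2 a3 a4
    have a5 : ∀ z, h.ap (g * w * g⁻¹ : h.EBˣ) (h.ap g z) - h.ap g z =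
        (-(κ * h.b (h.ap (qr h κ' b') z) a')) • h.ap g a' + (-(κ' * h.b z b')) • h.ap g b' := fun z => by
      rw [Units.val_mul, Units.val_mul, h.ap_mul, h.ap_mul, ap_inv_ap, hw, h.ap_mul, ap_qr, map_sub, map_smul]
      nth_rewrite 1 [ap_qr]
      rw [map_sub, map_smul]
      module
    refine la0 hD hB (h3 a' a1 a2) (fun e he => St.mem a4 he) (v' := h.ap g b') (fun x => ?_) ?_
    · have a6 := a5 (h.ap (g⁻¹ : h.EBˣ) x)
      rw [ap_ap_inv] at a6
      exact ⟨_, _, a6⟩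
    · obtain ⟨z, z1, z2⟩ := Fr.exists_ne h hD hE a1 a2
      have a6 := a5 z
      have z3 : h.b z b' = 0 := Fr.b_eq_zero h hD hE hE' hne z1 a3
      rw [ap_qr, z3, mul_zero, zero_smul, sub_zero, neg_zero, zero_smul, add_zero] at a6
      exact ⟨(-(κ * h.b z a'))⁻¹ • h.ap g z, by
        rw [map_smul, ← smul_sub, a6, smul_smul, inv_mul_cancel₀ (neg_ne_zero.2 (mul_ne_zero hκ z2)), one_smul]⟩
  have hrk : DS.Cl.cj h.EB (r * k) ∈ St F D := by
    rw [map_mul]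
    exact mul_mem (hr.st hD hE ha) (hk.st hD hE' hb)
  have hS : ¬ F.S ≤ St F D := fun hS => by
    refine key (r * k) _ _ a b (by rw [Units.val_mul, hr.val, hk.val]) (inv_ne_zero h0) ha ha0 hb ?_
    rw [map_mul, map_mul, map_inv]
    exact mul_mem (mul_mem (hS hg) hrk) (inv_mem (hS hg))
  have hfix : ∀ e ∈ D, DS.Cl.cj h.EB (r * k) e = e := fun e he => by
    rw [map_mul, ra_mul, cj_eq_of_mul (u := k) (b := e) (by rw [hk.val]; exact qr_comm h hD hE' hb _ e he),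
      cj_eq_of_mul (u := r) (b := e) (by rw [hr.val]; exact qr_comm h hD hE ha _ e he)]
  have hsq : r * k * (r * k) = 1 := by
    have a1 : k * r = r * k := Units.ext (by
      have a2 := qr_conj h hk.iso.1 (Q a)⁻¹ a
      rw [hk.fix (Fr.b_eq_zero h hD hE hE' hne ha hb), ← hr.val, Units.mul_inv_eq_iff_eq_mul] at a2
      exact a2)
    rw [mul_assoc, ← mul_assoc k, a1, mul_assoc, hk.sq hO, mul_one, hr.sq hO]
  have hn : ∀ a ∈ H, ∀ x ∈ H ⊓ fixingSubgroup (RingAut h.EB) (D : Set h.EB),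
      a * x * a⁻¹ ∈ H ⊓ fixingSubgroup (RingAut h.EB) (D : Set h.EB) := fun a ha x hx =>
    ⟨H.mul_mem (H.mul_mem ha hx.1) (H.inv_mem ha), (mem_fixingSubgroup_iff _).2 fun e he => by
      have a1 : x (a⁻¹ e) = a⁻¹ e := (mem_fixingSubgroup_iff _).1 hx.2 _ (hI _ (inv_mem ha) e he)
      change a (x (a⁻¹ e)) = e
      rw [a1, ra_apply_inv]⟩
  obtain ⟨β, hβ, hle⟩ := c.uni (Y := Subgroup.zpowers (DS.Cl.cj h.EB (r * k))) inf_le_left hn le_rfl
    (fun a ha => hn a ha.1) (by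
      rintro ⟨_, n, rfl⟩
      refine ⟨1, Subtype.ext ?_⟩
      change (DS.Cl.cj h.EB (r * k) ^ n) ^ p ^ 1 = 1
      rw [hp, pow_one, ← zpow_natCast, ← zpow_mul, mul_comm, zpow_mul, zpow_natCast, pow_two, ← map_mul, hsq, map_one,
        one_zpow])
    (Subgroup.zpowers_le.2 ⟨mem_H c hI hS (c.S_le (hr.pair hO hk hq)) hrk, (mem_fixingSubgroup_iff _).2 hfix⟩)
    (inv_mem (c.S_le hg))
  have h4 := hH (mem_cj.1 (hle (conj_mem_cj β (Subgroup.mem_zpowers _))))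
  obtain ⟨L⟩ := exists_SL h (c.le_SAut hβ.1)
  have h5 : ∀ e ∈ D, β e = e := (mem_fixingSubgroup_iff _).1 hβ.2
  refine key (um β (r * k)) (L.σ (Q a)⁻¹ / L.μ) (L.σ (Q b)⁻¹ / L.μ) (L.g a) (L.g b) ?_
    (div_ne_zero (by simpa using h0) L.μ_ne) ?_ (by simpa using ha0) ?_ ?_
  · rw [um_val, Units.val_mul, map_mul, hr.val, hk.val, L.map_qr, L.map_qr]
  · simpa only [h5 E hE] using L.map_fix ha
  · simpa only [h5 E' hE'] using L.map_fix hb
  · rwa [inv_inv, conj_cj, ← map_inv, ← map_mul, ← map_mul] at h4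

/-- two reflections -/
theorem even_two (hO : SB.Cl.IsO h F Q) (c : Ctx F G H m p) (hD : Fr D) (hI : Inv H D) (h2 : (2 : K) = 0)
    (hr : ∀ e ∈ D, SB.Cl.rk h e = 2) {E : Fin 4 → h.EB} (hE : Function.Injective E) (hm : ∀ i, E i ∈ D) {u w : Fin 4 → V}
    (hu : ∀ i, h.ap (E i) (u i) = u i) (hw : ∀ i, h.ap (E i) (w i) = w i) (hq : ∀ i, Q (u i) = 1) (i0 : Ind K (u 0) (w 0))
    (i1 : Ind K (u 1) (w 1)) (n3 : w 3 ≠ 0) (hs : Q (w 0) + Q (w 1) + Q (w 3) ≠ 0) : False := by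
  have hz : ∀ {i j}, i ≠ j → ∀ {x}, h.ap (E j) x = x → h.ap (E i) x = 0 := fun hij _ hx =>
    Fr.ap_eq_zero h hD (hm _) (hm _) (fun e => hij (hE e)) hx
  have hb : ∀ {i j}, i ≠ j → ∀ {x y}, h.ap (E i) x = x → h.ap (E j) y = y → h.b x y = 0 := fun hij _ _ hx hy =>
    Fr.b_eq_zero h hD (hm _) (hm _) (fun e => hij (hE e)) hx hy
  have hne : ∀ {i j}, i ≠ j → E i ≠ E j := fun hij e => hij (hE e)
  have n2 : u 2 ≠ 0 := fun e => one_ne_zero (α := K) (by rw [← hq 2, e, map_zero])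
  have q1 : Q (u 0 + u 1 + u 2) = 1 := by
    rw [O_add hO, O_add hO, h.add_left, hb (by decide) (hu 0) (hu 1), hb (by decide) (hu 0) (hu 2),
      hb (by decide) (hu 1) (hu 2), hq, hq, hq]
    linear_combination h2
  have q2 : Q (w 0 + w 1 + w 3) ≠ 0 := by
    rwa [O_add hO, O_add hO, h.add_left, hb (by decide) (hw 0) (hw 1), hb (by decide) (hw 0) (hw 3),
      hb (by decide) (hw 1) (hw 3), add_zero, add_zero, add_zero]
  have : CharP K 2 := (CharP.charP_iff_prime_eq_zero Nat.prime_two).2 h2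
  obtain ⟨t, ht⟩ := FiniteField.isSquare_of_char_two (ringChar.eq K 2) (Q (w 0 + w 1 + w 3))
  obtain ⟨r, k1⟩ := exists_rf hO (q1 ▸ one_ne_zero : Q (u 0 + u 1 + u 2) ≠ 0)
  obtain ⟨r', k2⟩ := exists_rf hO q2
  refine even_core hO c hD hI h2 (big_of hD fun e he => (hr e he).ge) (hm 0) (hm 1) (hne (by decide)) (hu 0) (hu 1)
    ((hq 0).trans (hq 1).symm) (hq 0 ▸ one_ne_zero) (g := r' * r)
    (k2.pair hO (k1.smul hO (c := t) fun e => q2 (by rw [ht, e, mul_zero]))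
      (by rw [QuadraticMap.map_smul, q1, ← ht, smul_eq_mul, mul_one])) fun x hx hx0 => ?_
  have b1 : h.b x (u 0 + u 1 + u 2) = h.b x (u 0) := by
    rw [h.add_right, h.add_right, hb (by decide) hx (hu 1), hb (by decide) hx (hu 2), add_zero, add_zero]
  have b2 : h.b x (w 0 + w 1 + w 3) = h.b x (w 0) := by
    rw [h.add_right, h.add_right, hb (by decide) hx (hw 1), hb (by decide) hx (hw 3), add_zero, add_zero]
  obtain ⟨α, β, hα, hβ, e⟩ : ∃ α β : K, α = h.b x (u 0) ∧ (α = 0 → (β = 0 ↔ h.b x (w 0) = 0)) ∧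
      h.ap (r' * r : h.EBˣ) x = x - α • (u 0 + u 1 + u 2) - β • (w 0 + w 1 + w 3) := by
    refine ⟨_, (Q (w 0 + w 1 + w 3))⁻¹ * h.b (h.ap r x) (w 0 + w 1 + w 3), rfl, fun a1 => ?_, ?_⟩
    · rw [k1.fix (b1.trans a1), b2, mul_eq_zero_iff_left (inv_ne_zero q2)]
    · rw [Units.val_mul, h.ap_mul, k2.ap]
      nth_rewrite 1 [k1.ap]
      rw [q1, inv_one, one_mul, b1]
  rw [e]
  set y := x - α • (u 0 + u 1 + u 2) - β • (w 0 + w 1 + w 3)
  have c0 : h.ap (E 0) y = x - α • u 0 - β • w 0 := by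
    simp only [y, map_sub, map_smul, map_add, hx, hu, hw, hz (i := 0) (by decide) (hu 1), hz (i := 0) (by decide) (hu 2),
      hz (i := 0) (by decide) (hw 1), hz (i := 0) (by decide) (hw 3), add_zero]
  have c1 : h.ap (E 1) y = (-α) • u 1 + (-β) • w 1 := by
    simp only [y, map_sub, map_smul, map_add, hu, hw, hz (i := 1) (by decide) hx, hz (i := 1) (by decide) (hu 0),
      hz (i := 1) (by decide) (hu 2), hz (i := 1) (by decide) (hw 0), hz (i := 1) (by decide) (hw 3), add_zero, zero_add]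
    module
  have c2 : h.ap (E 2) y = (-α) • u 2 := by
    simp only [y, map_sub, map_smul, map_add, hu, hz (i := 2) (by decide) hx, hz (i := 2) (by decide) (hu 0),
      hz (i := 2) (by decide) (hu 1), hz (i := 2) (by decide) (hw 0), hz (i := 2) (by decide) (hw 1),
      hz (i := 2) (by decide) (hw 3), add_zero, zero_add]
    module
  have c3 : h.ap (E 3) y = (-β) • w 3 := by
    simp only [y, map_sub, map_smul, map_add, hw, hz (i := 3) (by decide) hx, hz (i := 3) (by decide) (hu 0),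
      hz (i := 3) (by decide) (hu 1), hz (i := 3) (by decide) (hu 2), hz (i := 3) (by decide) (hw 0),
      hz (i := 3) (by decide) (hw 1), add_zero, zero_add]
    module
  have s0 : ∀ z, h.b z z = 0 := fun z => by rw [O_self hO, h2, zero_mul]
  by_cases a1 : α = 0 <;> by_cases a2 : β = 0
  · obtain ⟨z, z1, z2⟩ := Fr.exists_ne h hD (hm 0) hx hx0
    obtain ⟨s, t, rfl⟩ := span_two (hr _ (hm 0)) (hu 0) (hw 0) i0 z1
    rw [h.add_left, h.smul_left, h.smul_left, O_symm hO (u 0), O_symm hO (w 0), ← hα, a1, (hβ a1).1 a2] at z2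
    simp at z2
  · refine ⟨E 0, hm 0, E 1, hm 1, E 3, hm 3, hne (by decide), hne (by decide), hne (by decide), fun e => ?_,
      fun e => a2 (neg_eq_zero.1 (i1 _ _ (c1 ▸ e)).2), c3 ▸ smul_ne_zero (neg_ne_zero.2 a2) n3⟩
    rw [c0, a1, zero_smul, sub_zero, sub_eq_zero] at e
    exact a2 ((hβ a1).2 (by rw [e, h.smul_left, s0, mul_zero]))
  · refine ⟨E 0, hm 0, E 1, hm 1, E 2, hm 2, hne (by decide), hne (by decide), hne (by decide), fun e => ?_,
      fun e => a1 (neg_eq_zero.1 (i1 _ _ (c1 ▸ e)).1), c2 ▸ smul_ne_zero (neg_ne_zero.2 a1) n2⟩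
    rw [c0, a2, zero_smul, sub_zero, sub_eq_zero] at e
    exact a1 (hα.trans (by rw [e, h.smul_left, s0, mul_zero]))
  · exact ⟨E 1, hm 1, E 2, hm 2, E 3, hm 3, hne (by decide), hne (by decide), hne (by decide),
      fun e => a1 (neg_eq_zero.1 (i1 _ _ (c1 ▸ e)).1), c2 ▸ smul_ne_zero (neg_ne_zero.2 a1) n2,
      c3 ▸ smul_ne_zero (neg_ne_zero.2 a2) n3⟩

/-- **planes, characteristic two** -/
theorem planes_even (hO : SB.Cl.IsO h F Q) (c : Ctx F G H m p) (hD : Fr D) (hI : Inv H D) (h2 : (2 : K) = 0)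
    (hr : ∀ e ∈ D, SB.Cl.rk h e = 2) (h4 : 4 ≤ D.card) : False := by
  obtain ⟨E, hE, hm⟩ := exists_inj h4
  choose u hu hq using fun i : Fin 4 => exists_val hO hD (hm i) (hr _ (hm i)) 1
  have hn : ∀ i, u i ≠ 0 := fun i e => one_ne_zero (α := K) (by rw [← hq i, e, map_zero])
  choose w hw hi using fun i : Fin 4 => exists_ind (hr _ (hm i)).ge (hD.idem _ (hm i)) (hn i)
  have key : ∀ π : Fin 4 → Fin 4, Function.Injective π → ∀ z, h.ap (E (π 3)) z = z → Q z ≠ 0 →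
      Q (w (π 0)) + Q (w (π 1)) + Q z = 0 := fun π hπ z z1 z2 => by
    by_contra z3
    refine even_two hO c hD hI h2 hr (hE.comp hπ) (fun i => hm _) (u := fun i => u (π i))
      (w := ![w (π 0), w (π 1), w (π 2), z]) (fun i => hu _) (fun i => ?_) (fun i => hq _) (hi _) (hi _)
      (fun e : z = 0 => z2 (by rw [e, map_zero])) z3
    fin_cases i
    exacts [hw _, hw _, hw _, z1]
  have k1 := key id Function.injective_id _ (hu 3) (hq 3 ▸ one_ne_zero)
  have k2 := key ![0, 2, 1, 3] (by decide) _ (hu 3) (hq 3 ▸ one_ne_zero)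
  have k3 := key ![1, 2, 0, 3] (by decide) _ (hu 3) (hq 3 ▸ one_ne_zero)
  rw [hq] at k1 k2 k3
  change Q (w 0) + Q (w 1) + 1 = 0 at k1
  change Q (w 0) + Q (w 2) + 1 = 0 at k2
  change Q (w 1) + Q (w 2) + 1 = 0 at k3
  exact one_ne_zero (α := K) (by linear_combination k1 + k2 + k3 - (Q (w 0) + Q (w 1) + Q (w 2) + 1) * h2)

theorem rk_map [Nontrivial V] {γ : RingAut h.EB} (hγ : γ ∈ SAut h.EB) (e : h.EB) :
    SB.Cl.rk h (γ e) = SB.Cl.rk h e := by
  have : Module.Finite K V := Module.Finite.of_finite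
  obtain ⟨L⟩ := exists_SL h hγ
  have h1 : Nat.card (LinearMap.range (h.ap e)) = Nat.card (LinearMap.range (h.ap (γ e))) :=
    Nat.card_congr (L.g.toEquiv.subtypeEquiv fun x => ⟨by
      rintro ⟨y, rfl⟩
      exact ⟨L.g y, L.conj e y⟩, by
      rintro ⟨y, hy⟩
      obtain ⟨y, rfl⟩ := L.g.surjective y
      exact ⟨y, L.g.injective ((L.conj e y).symm.trans hy)⟩⟩)
  rw [Module.natCard_eq_pow_finrank (K := K),
    Module.natCard_eq_pow_finrank (K := K) (V := LinearMap.range (h.ap (γ e)))] at h1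
  exact (Nat.pow_right_injective Finite.one_lt_card h1).symm

theorem span_one {e : h.EB} (h1 : SB.Cl.rk h e = 1) {x : V} (hx : h.ap e x = x) (h0 : x ≠ 0) (z : V) :
    ∃ c : K, h.ap e z = c • x := by
  obtain ⟨c, hc⟩ := (finrank_eq_one_iff_of_nonzero' (⟨x, x, hx⟩ : LinearMap.range (h.ap e))
    fun e => h0 (congrArg Subtype.val e)).1 h1 ⟨h.ap e z, z, rfl⟩
  exact ⟨c, (congrArg Subtype.val hc).symm⟩

/-- **lines** -/
theorem lines' (hO : SB.Cl.IsO h F Q) (c : Ctx F G H m p) (hD : SB.Fr.MinFr H D) (hr : ∀ e ∈ D, SB.Cl.rk h e = 1)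
    (h7 : 7 ≤ D.card) : False := by
  obtain ⟨E, hE, hm⟩ := exists_inj h7
  choose n hn hq using fun i => exists_nonsing hO hD.fr (hm i)
  have h0 : ∀ {x : V}, Q x ≠ 0 → x ≠ 0 := fun hx e => hx (by rw [e, map_zero])
  have : Nontrivial V := ⟨_, _, h0 (hq 0)⟩
  have h2 : 2 * Q (n 0) ≠ 0 := by
    obtain ⟨u, u1, u2⟩ := Fr.exists_ne h hD.fr (hm 0) (hn 0) (h0 (hq 0))
    obtain ⟨t, ht⟩ := span_one (hr _ (hm 0)) (hn 0) (h0 (hq 0)) u
    rw [← u1, ht, h.smul_left, O_self hO] at u2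
    exact right_ne_zero_of_mul u2
  let W : h.EB → Set K := fun e => {y | ∃ x, h.ap e x = x ∧ Q x = y}
  have h3 : ∀ i j, (∃ t, Q (n i) = t * t * Q (n j)) → W (E i) = W (E j) := by
    have h3 : ∀ i j, (∃ t, Q (n i) = t * t * Q (n j)) → W (E i) ⊆ W (E j) := by
      rintro i j ⟨t, ht⟩ _ ⟨x, hx, rfl⟩
      obtain ⟨s, hs⟩ := span_one (hr _ (hm i)) (hn i) (h0 (hq i)) x
      refine ⟨(s * t) • n j, by rw [map_smul, hn], ?_⟩
      rw [← hx, hs, QuadraticMap.map_smul, QuadraticMap.map_smul, ht, smul_eq_mul, smul_eq_mul]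
      ring
    rintro i j ⟨t, ht⟩
    have h4 : t ≠ 0 := fun e => hq i (by rw [ht, e, zero_mul, zero_mul])
    exact (h3 i j ⟨t, ht⟩).antisymm (h3 j i ⟨t⁻¹, by rw [ht]; field_simp⟩)
  have hW : ∀ γ ∈ H, ∀ e ∈ D, ∀ f ∈ D, W e = W f → W (γ e) = W (γ f) := fun γ hγ e _ f _ hef => by
    obtain ⟨L⟩ := exists_SL h (c.le_SAut hγ)
    have h4 : ∀ e, W (γ e) = (fun y => L.μ * L.σ y) '' W e := fun e => Set.ext fun y => ⟨by
      rintro ⟨x, hx, rfl⟩
      obtain ⟨x, rfl⟩ := L.g.surjective x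
      exact ⟨Q x, ⟨x, L.g.injective ((L.conj e x).symm.trans hx), rfl⟩, (L.quad hO (c.H_le_Aut hγ) x).symm⟩, by
      rintro ⟨_, ⟨x, hx, rfl⟩, rfl⟩
      exact ⟨L.g x, L.map_fix hx, L.quad hO (c.H_le_Aut hγ) x⟩⟩
    rw [h4, h4, hef]
  rcases hD.part W hW with h4 | h4
  · choose e he he' using fun i => show Q (n 0) ∈ W (E i) from h4 _ (hm 0) _ (hm i) ▸ ⟨n 0, hn 0, rfl⟩
    exact lines hO c hD.fr hD.inv h2 hE fun i => ⟨hm i, he i, he' i, span_one (hr _ (hm i)) (he i) (h0 (he' i ▸ hq 0))⟩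
  · rcases SB.Fr.sq_of_three (hq 0) (hq 1) (hq 2) with h5 | h5 | h5 <;>
      simpa using hE (h4 (hm _) (hm _) (h3 _ _ h5))

end Cfsg.Agent.TH.Cl.TorO

namespace Cfsg.Agent.TH.Cl

open Cfsg.Agent.DS.Cl Cfsg.Agent.DS.Cl.Fwd Cfsg.Agent.SB.Tor Module TorO

/-- **[C-Tor], orthogonal groups** -/
theorem boxTorO : BoxTorO := by
  intro K V _ _ _ _ _ h F Q G H m p k c ⟨h1, h2⟩
  obtain ⟨D, hD⟩ := SB.Fr.exists_minFr h1
  have h3 : ∀ e ∈ D, SB.Cl.rk h e ≤ 2 := fun e he => by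
    by_contra h3
    exact h2 ⟨D, hD.fr, hD.inv, e, he, by omega⟩
  have h7 := k.dim
  have : Nontrivial V := Module.nontrivial_of_finrank_pos (R := K) (by omega)
  have h4 := finrank_le_sum h hD.fr.sum
  have h5 : ∑ e ∈ D, SB.Cl.rk h e ≤ D.card * 2 := Finset.sum_le_card_nsmul D _ 2 h3
  rcases hD.part (SB.Cl.rk h) (fun γ hγ e _ f _ hef => by
    rw [rk_map (c.le_SAut hγ), rk_map (c.le_SAut hγ), hef]) with h6 | h6
  · obtain ⟨e, he⟩ : D.Nonempty := Finset.card_pos.1 (by omega)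
    rw [Finset.sum_congr rfl fun f hf => h6 f hf e he, Finset.sum_const, smul_eq_mul] at h4
    have h8 := h3 e he
    interval_cases h9 : SB.Cl.rk h e
    · omega
    · exact lines' k.o c hD (fun f hf => (h6 f hf e he).trans h9) (by omega)
    · by_cases hK : (2 : K) = 0
      · exact planes_even k.o c hD.fr hD.inv hK (fun f hf => (h6 f hf e he).trans h9) (by omega)
      · exact planes_odd k.o c hD.fr hD.inv hK (fun f hf => (h6 f hf e he).trans h9) (by omega)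
  · have h8 := Finset.card_le_card_of_injOn (t := Finset.range 3) _
      (fun e he => Finset.mem_coe.2 (Finset.mem_range.2 (Nat.lt_succ_of_le (h3 e he)))) h6
    rw [Finset.card_range] at h8
    omega

end Cfsg.Agent.TH.Cl
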