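import Cfsg.Agent.TH.Cl.TorO.Refl

/-!
# S3541, orthogonal groups in odd characteristic: frames of lines and frames of planes (helper33)
-/

set_option autoImplicit false
set_option linter.unusedSectionVars false
set_option maxHeartbeats 400000

namespace Cfsg.Agent.TH.Cl.TorO

open Cfsg.Agent.DS.Cl Cfsg.Agent.DS.Cl.Fwd Cfsg.Agent.SB.Tor Module

theorem exists_inj {A : Type} {D : Finset A} {n : ℕ} (hn : n ≤ D.card) :
    ∃ E : Fin n → A, Function.Injective E ∧ ∀ i, E i ∈ D := by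
  obtain ⟨f⟩ := Function.Embedding.nonempty_of_card_le (α := Fin n) (β := D) (by simpa using hn)
  exact ⟨fun i => f i, fun i j hij => f.injective (Subtype.ext hij), fun i => (f i).2⟩

variable {K V : Type} [Field K] [Finite K] [AddCommGroup V] [Module K V] [Finite V] {h : HF K V} {D : Finset h.EB}
  {F : FR h.EB} {Q : QuadraticForm K V} {G H : Subgroup (RingAut h.EB)} {m p : ℕ}

/-- **planes, odd characteristic** -/
theorem planes_odd (hO : SB.Cl.IsO h F Q) (c : Ctx F G H m p) (hD : Fr D) (hI : Inv H D) (h2 : (2 : K) ≠ 0)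
    (hr : ∀ e ∈ D, SB.Cl.rk h e = 2) (h4 : 4 ≤ D.card) : False := by
  obtain ⟨E, hE, hm⟩ := exists_inj h4
  have hne : ∀ {x : V}, Q x ≠ 0 → x ≠ 0 := fun hx h0 => hx (by rw [h0, map_zero])
  choose x hx hQ using fun i : Fin 4 => exists_val hO hD (hm i) (hr _ (hm i)) ((![1, 1, 2, 2] : Fin 4 → K) i)
  have q0 : Q (x 0) = 1 := hQ 0
  have q1 : Q (x 1) = 1 := hQ 1
  have q2 : Q (x 2) = 2 := hQ 2
  have q3 : Q (x 3) = 2 := hQ 3
  have hz : ∀ i j, h.ap (E i) (x j) = if i = j then x i else 0 := fun i j => by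
    split_ifs with hij
    · rw [← hij, hx]
    · exact Fr.ap_eq_zero h hD (hm i) (hm j) (fun e => hij (hE e)) (hx j)
  have hb : ∀ i j, i ≠ j → h.b (x i) (x j) = 0 := fun i j hij =>
    Fr.b_eq_zero h hD (hm i) (hm j) (fun e => hij (hE e)) (hx i) (hx j)
  have qv : Q (x 0 + x 1) = 2 := by rw [O_add hO, q0, q1, hb 0 1 (by decide)]; ring
  have n0 : x 0 ≠ 0 := hne (q0 ▸ one_ne_zero)
  have n1 : x 1 ≠ 0 := hne (q1 ▸ one_ne_zero)
  have n2 : x 2 ≠ 0 := hne (q2 ▸ h2)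
  obtain ⟨r0, k0⟩ := exists_rf hO (q0 ▸ one_ne_zero : Q (x 0) ≠ 0)
  obtain ⟨r2, k2⟩ := exists_rf hO (q2 ▸ h2 : Q (x 2) ≠ 0)
  obtain ⟨r3, k3⟩ := exists_rf hO (q3 ▸ h2 : Q (x 3) ≠ 0)
  have h5 := keyO hO c hD hI h2 (hm 2) (v := x 0 + x 1) (hx 2) (by simp [hz]) (q2.trans qv.symm) (qv ▸ h2)
    (fun r hr' hS => ?_) ⟨r0, _, k0.smul hO h2, ?_, k0.st hD (hm 0) (hx 0)⟩
    (la3 hD (big_of hD fun e he => (hr e he).ge) ⟨E 0, hm 0, E 1, hm 1, E 2, hm 2, fun e => by simpa using hE e,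
      fun e => by simpa using hE e, fun e => by simpa using hE e, by simpa [hz], by simpa [hz], by simpa [hz]⟩)
    (X := {E 2}) (fun f hf hq => ?_) (y := fun s : Bool => cond s (x 2) (-x 2)) ?_ ?_
  · simp at h5
  · have a1 := cj_eq_of_St hD (inv_ne_zero hr'.ne) hr'.val hS (hm 0) (hm 1) (fun e => by simpa using hE e)
      (by simpa [hz]) (by simpa [hz])
    obtain ⟨y, hy, hxy⟩ := exists_ind (hr _ (hm 0)).ge (hD.idem _ (hm 0)) n0
    have a2 : h.b (x 0) (x 0 + x 1) = 2 := by rw [h.add_right, hb 0 1 (by decide), O_self hO, q0]; ring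
    have a3 : h.ap (E 0) (h.b y (x 0 + x 1) • x 0 + (-2 : K) • y) = h.b y (x 0 + x 1) • x 0 + (-2 : K) • y := by
      rw [map_add, map_smul, map_smul, hx, hy]
    have a4 := ap_cj r a3
    rw [← a1, hr'.fix (by rw [h.add_left, h.smul_left, h.smul_left, a2]; ring),
      Fr.ap_eq_zero h hD (hm 1) (hm 0) (fun e => by simpa using hE e) a3] at a4
    exact h2 (neg_eq_zero.1 (hxy _ _ a4.symm).2)
  · rw [QuadraticMap.map_smul, q0, qv, smul_eq_mul, mul_one]
  · rw [Finset.mem_singleton]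
    by_contra a2
    rw [qv] at hq
    by_cases a0 : f = E 0
    · rw [a0] at hq
      simp only [map_add, hz, reduceIte, Fin.reduceEq, add_zero, q0] at hq
      exact one_ne_zero (α := K) (by linear_combination -hq)
    by_cases a1 : f = E 1
    · rw [a1] at hq
      simp only [map_add, hz, reduceIte, Fin.reduceEq, add_zero, zero_add, q1] at hq
      exact one_ne_zero (α := K) (by linear_combination -hq)
    rw [map_add (h.ap f), map_add (h.ap f), Fr.ap_eq_zero h hD hf (hm 0) a0 (hx 0), Fr.ap_eq_zero h hD hf (hm 1) a1 (hx 1),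
      Fr.ap_eq_zero h hD hf (hm 2) a2 (hx 2), add_zero, add_zero, map_zero] at hq
    exact h2 hq.symm
  · have a1 : x 2 ≠ -x 2 := fun e => smul_ne_zero h2 n2 (by rw [two_smul]; exact add_eq_zero_iff_eq_neg.2 e)
    rintro (_ | _) (_ | _) e
    exacts [rfl, absurd e.symm a1, absurd e a1, rfl]
  · rintro (_ | _)
    · refine ⟨r2 * r3, mul_mem k2.iso k3.iso, k2.pair hO k3 (q2.trans q3.symm), ?_, ?_, ?_⟩
      · rw [map_mul]
        exact mul_mem (k2.st hD (hm 2) (hx 2)) (k3.st hD (hm 3) (hx 3))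
      · rw [Units.val_mul, h.ap_mul, k3.fix (by rw [h.add_left, hb 0 3 (by decide), hb 1 3 (by decide), add_zero]),
          k2.fix (by rw [h.add_left, hb 0 2 (by decide), hb 1 2 (by decide), add_zero])]
      · rw [Units.val_mul, h.ap_mul, k3.fix (hb 2 3 (by decide)), k2.neg hO]
        rfl
    · exact ⟨1, one_mem _, by rw [map_one]; exact one_mem _, by rw [map_one]; exact one_mem _, rfl, rfl⟩

/-- `e` spans the block `E` and has the value `a` -/
structure Gn (h : HF K V) (Q : QuadraticForm K V) (D : Finset h.EB) (a : K) (E : h.EB) (e : V) : Prop where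
  mem : E ∈ D
  fix : h.ap E e = e
  q : Q e = a
  val : ∀ x, ∃ c : K, h.ap E x = c • e

variable {a : K} {E E' : h.EB} {e e' : V}

theorem Gn.neg (g : Gn h Q D a E e) : Gn h Q D a E (-e) :=
  ⟨g.mem, by rw [map_neg, g.fix], by rw [QuadraticMap.map_neg, g.q], fun x => by
    obtain ⟨c, hc⟩ := g.val x
    exact ⟨-c, by rw [hc, neg_smul_neg]⟩⟩

theorem Gn.eq (hO : SB.Cl.IsO h F Q) (hD : Fr D) (h2 : 2 * a ≠ 0) (g : Gn h Q D a E e) : E = 1 - qr h (2 * a)⁻¹ e :=
  h.ap_ext fun x => by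
    obtain ⟨c, hc⟩ := g.val x
    have h1 : h.b x e = c * (2 * a) := by
      rw [← g.fix, ← hD.symm E g.mem, h.b_star, hc, h.smul_left, O_self hO, g.q]
    rw [h.ap_sub, h.ap_one, ap_qr, sub_sub_cancel, hc, h1, mul_comm c, inv_mul_cancel_left₀ h2]

theorem Gn.swap (hO : SB.Cl.IsO h F Q) (hD : Fr D) (h2 : 2 * a ≠ 0) (g : Gn h Q D a E e) (g' : Gn h Q D a E' e')
    (hE : E ≠ E') : Q (e - e') = 2 * a ∧ ∃ r, Rf h F Q r (e - e') ∧ DS.Cl.cj h.EB r ∈ St F D ∧ h.ap r e = e' := by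
  have h1 : Q (e - e') = 2 * a := by
    rw [O_sub hO, Fr.b_eq_zero h hD g.mem g'.mem hE g.fix g'.fix, g.q, g'.q]; ring
  obtain ⟨r, hr⟩ := exists_rf hO (h1 ▸ h2 : Q (e - e') ≠ 0)
  have h3 := hr.swap hO (g.q.trans g'.q.symm)
  have h4 : h.ap r e' = e := by rw [← h3, hr.ap_ap hO]
  have h5 : ∀ x, DS.Cl.cj h.EB r (1 - qr h (2 * a)⁻¹ x) = 1 - qr h (2 * a)⁻¹ (h.ap r x) := fun x => by
    rw [map_sub, map_one, cj_apply, qr_conj h hr.iso.1]
  refine ⟨h1, r, hr, mem_St (FR.cj_mem_Aut hr.iso) fun f hf => ?_, h3⟩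
  by_cases a1 : f = E
  · rw [a1, g.eq hO hD h2, h5, h3, ← g'.eq hO hD h2]
    exact g'.mem
  by_cases a2 : f = E'
  · rw [a2, g'.eq hO hD h2, h5, h4, ← g.eq hO hD h2]
    exact g.mem
  have a3 : h.ap f (e - e') = 0 := by
    rw [map_sub, Fr.ap_eq_zero h hD hf g.mem a1 g.fix, Fr.ap_eq_zero h hD hf g'.mem a2 g'.fix, sub_zero]
  rwa [cj_eq_of_mul (b := f) (h.ap_ext fun x => ?_)]
  rw [h.ap_mul, h.ap_mul, hr.fix (by rw [← h.b_star, hD.symm f hf, a3, h.zero_right]), hr.ap, map_sub, map_smul, a3,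
    smul_zero, sub_zero]

/-- **lines** -/
theorem lines (hO : SB.Cl.IsO h F Q) (c : Ctx F G H m p) (hD : Fr D) (hI : Inv H D) (h0 : 2 * a ≠ 0)
    {E : Fin 7 → h.EB} (hE : Function.Injective E) {e : Fin 7 → V} (g : ∀ i, Gn h Q D a (E i) (e i)) : False := by
  classical
  have h2 : (2 : K) ≠ 0 := left_ne_zero_of_mul h0
  have hn : ∀ i, e i ≠ 0 := fun i h1 => right_ne_zero_of_mul h0 (by rw [← (g i).q, h1, map_zero])
  have hz : ∀ i j, h.ap (E i) (e j) = if i = j then e i else 0 := fun i j => by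
    split_ifs with hij
    · rw [← hij, (g i).fix]
    · exact Fr.ap_eq_zero h hD (g i).mem (g j).mem (fun e => hij (hE e)) (g j).fix
  have hb : ∀ i j, h.b (e i) (e j) = if i = j then 2 * a else 0 := fun i j => by
    split_ifs with hij
    · rw [← hij, O_self hO, (g i).q]
    · exact Fr.b_eq_zero h hD (g i).mem (g j).mem (fun e => hij (hE e)) (g i).fix (g j).fix
  have qv : Q (e 0 + e 1 + e 2 + e 3) = 2 * (2 * a) := by
    simp only [O_add hO, h.add_left, hb, (g _).q, reduceIte, Fin.reduceEq]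
    ring
  obtain ⟨q0, r0, k0, s0, -⟩ := (g 0).swap hO hD h0 (g 1) fun e => by simpa using hE e
  let P : V → V → Prop := fun y y' => ∃ u ∈ F.Iso, DS.Cl.cj h.EB u ∈ F.S ∧ DS.Cl.cj h.EB u ∈ St F D ∧
    h.ap u (e 0 + e 1 + e 2 + e 3) = e 0 + e 1 + e 2 + e 3 ∧ h.ap u ((2 : K) • y) = (2 : K) • y'
  have P1 : ∀ y, P y y := fun y =>
    ⟨1, one_mem _, by rw [map_one]; exact one_mem _, by rw [map_one]; exact one_mem _, rfl, rfl⟩
  have P2 : ∀ y y' y'', P y y' → P y' y'' → P y y'' := by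
    rintro y y' y'' ⟨u, a1, a2, a3, a4, a5⟩ ⟨u', b1, b2, b3, b4, b5⟩
    exact ⟨u' * u, mul_mem b1 a1, by rw [map_mul]; exact mul_mem b2 a2, by rw [map_mul]; exact mul_mem b3 a3,
      by rw [Units.val_mul, h.ap_mul, a4, b4], by rw [Units.val_mul, h.ap_mul, a5, b5]⟩
  have P3 : ∀ i j : Fin 7, 4 ≤ i → 4 ≤ j → i ≠ j → ∀ y', Gn h Q D a (E j) y' → P (e i) y' := by
    intro i j hi hj hij y' g'
    obtain ⟨q1, r1, k1, s1, t1⟩ := (g i).swap hO hD h0 g' fun e => hij (hE e)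
    have a1 : ∀ k l : Fin 7, 4 ≤ k → l < 4 → ∀ y, h.ap (E k) y = y → h.b (e l) y = 0 := fun k l hk hl y hy =>
      Fr.b_eq_zero h hD (g l).mem (g k).mem (fun e => by rw [hE e] at hl; omega) (g l).fix hy
    have a2 : ∀ k : Fin 7, 4 ≤ k → ∀ y, h.ap (E k) y = y → h.b (e 0 + e 1 + e 2 + e 3) y = 0 := fun k hk y hy => by
      rw [h.add_left, h.add_left, h.add_left, a1 k 0 hk (by decide) y hy, a1 k 1 hk (by decide) y hy,
        a1 k 2 hk (by decide) y hy, a1 k 3 hk (by decide) y hy]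
      simp
    refine ⟨r1 * r0, mul_mem k1.iso k0.iso, k1.pair hO k0 (q1.trans q0.symm), by rw [map_mul]; exact mul_mem s1 s0, ?_, ?_⟩
    · rw [Units.val_mul, h.ap_mul, k0.fix (by simp [h.add_left, h.sub_right, hb]),
        k1.fix (by rw [h.sub_right, a2 i hi _ (g i).fix, a2 j hj _ g'.fix, sub_zero])]
    · rw [Units.val_mul, h.ap_mul, map_smul, map_smul, k0.fix, t1]
      rw [h.sub_right, O_symm hO, a1 i 0 hi (by decide) _ (g i).fix, O_symm hO, a1 i 1 hi (by decide) _ (g i).fix, sub_zero]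
  have hX : (Finset.univ.image fun i : Fin 5 => E (i.castLE (by decide))).card = 5 := by
    exact (Finset.card_image_of_injective _ (hE.comp (Fin.castLE_injective _))).trans (by simp)
  have h5 := keyO hO c hD hI h2 (g 4).mem (v := e 0 + e 1 + e 2 + e 3) (x := (2 : K) • e 4) (by rw [map_smul, (g 4).fix])
    (by simp [hz]) (by rw [qv, QuadraticMap.map_smul, (g 4).q, smul_eq_mul]; ring) (qv ▸ mul_ne_zero h2 h0)
    (fun r hr' hS => ?_) ⟨r0, _, k0.smul hO h2, ?_, s0⟩ (la5 hD ?_ hX.ge ?_)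
    (X := Finset.univ.image fun i : Fin 5 => E (i.castLE (by decide))) (fun f hf hq => ?_)
    (y := fun s : Bool × Fin 3 => (2 : K) • cond s.1 (e (s.2.natAdd 4)) (-e (s.2.natAdd 4))) ?_ ?_
  · rw [hX] at h5
    simp at h5
  · have a1 := cj_eq_of_St hD (inv_ne_zero hr'.ne) hr'.val hS (g 0).mem (g 1).mem (fun e => by simpa using hE e)
      (by simpa [hz] using hn 0) (by simpa [hz] using hn 1)
    have a2 := cj_eq_of_St hD (inv_ne_zero hr'.ne) hr'.val hS (g 0).mem (g 2).mem (fun e => by simpa using hE e)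
      (by simpa [hz] using hn 0) (by simpa [hz] using hn 2)
    simpa using hE (a1.trans a2.symm)
  · rw [QuadraticMap.map_smul, q0, qv, smul_eq_mul, mul_assoc]
  · intro f hf
    obtain ⟨i, -, rfl⟩ := Finset.mem_image.1 hf
    exact (g _).mem
  · intro f hf
    obtain ⟨i, -, rfl⟩ := Finset.mem_image.1 hf
    fin_cases i <;> simp [hz, hn, h2]
  · by_contra a1
    have a2 : ∀ i : Fin 5, h.ap f (e (i.castLE (by decide))) = 0 := fun i =>
      Fr.ap_eq_zero h hD hf (g _).mem (fun e => a1 (Finset.mem_image.2 ⟨i, Finset.mem_univ _, e.symm⟩)) (g _).fix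
    have b0 : h.ap f (e 0) = 0 := a2 0
    have b1 : h.ap f (e 1) = 0 := a2 1
    have b2 : h.ap f (e 2) = 0 := a2 2
    have b3 : h.ap f (e 3) = 0 := a2 3
    have b4 : h.ap f (e 4) = 0 := a2 4
    rw [qv, map_add (h.ap f), map_add (h.ap f), map_add (h.ap f), map_add (h.ap f), map_smul (h.ap f), b0, b1, b2,
      b3, b4] at hq
    exact mul_ne_zero h2 h0 (by simpa using hq.symm)
  · rintro ⟨s, i⟩ ⟨t, j⟩ hij
    have a1 := congrArg (h.ap (E (i.natAdd 4))) (smul_right_injective V h2 hij)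
    have a2 : ∀ i, e i ≠ -e i := fun i e' =>
      smul_ne_zero h2 (hn i) (by rw [two_smul]; exact add_eq_zero_iff_eq_neg.2 e')
    have a3 : i = j := by
      by_contra a3
      have a4 : (i.natAdd 4 : Fin 7) ≠ j.natAdd 4 := fun e => a3 (Fin.natAdd_injective _ _ e)
      cases s <;> cases t <;> simp [hz, a4, hn] at a1
    subst a3
    cases s <;> cases t <;> simp [hz, a2, (a2 _).symm] at a1 ⊢
  · rintro ⟨s, i⟩
    have a1 : Gn h Q D a (E (i.natAdd 4)) (cond s (e (i.natAdd 4)) (-e (i.natAdd 4))) := by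
      cases s
      exacts [(g _).neg, g _]
    fin_cases i
    · exact P2 _ _ _ (P3 4 5 (by decide) (by decide) (by decide) _ (g 5)) (P3 5 4 (by decide) (by decide) (by decide) _ a1)
    · exact P3 4 5 (by decide) (by decide) (by decide) _ a1
    · exact P3 4 6 (by decide) (by decide) (by decide) _ a1

end Cfsg.Agent.TH.Cl.TorO
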