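import Cfsg.Agent.TH.Cl.TorO.Key

/-!
# S3541, orthogonal groups: reflections and the product trick for `v`, `v + x` (helper33)
-/

set_option autoImplicit false
set_option linter.unusedSectionVars false
set_option maxHeartbeats 400000

namespace Cfsg.Agent.TH.Cl.TorO

open Cfsg.Agent.DS.Cl Cfsg.Agent.DS.Cl.Fwd Cfsg.Agent.SB.Tor Module
open scoped commutatorElement

variable {K V : Type} [Field K] [Finite K] [AddCommGroup V] [Module K V] [Finite V] {h : HF K V} {D : Finset h.EB}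
  {F : FR h.EB} {Q : QuadraticForm K V}

/-- `r` is the reflection in `v` -/
structure Rf (h : HF K V) (F : FR h.EB) (Q : QuadraticForm K V) (r : h.EBˣ) (v : V) : Prop where
  iso : r ∈ F.Iso
  val : (r : h.EB) = qr h (Q v)⁻¹ v
  ne : Q v ≠ 0

theorem Rf.ap {r : h.EBˣ} {v : V} (hr : Rf h F Q r v) (x : V) : h.ap r x = x - ((Q v)⁻¹ * h.b x v) • v := by
  rw [hr.val, ap_qr]

theorem Rf.fix {r : h.EBˣ} {v : V} (hr : Rf h F Q r v) {x : V} (hx : h.b x v = 0) : h.ap r x = x := by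
  rw [hr.ap, hx, mul_zero, zero_smul, sub_zero]

theorem Rf.st {r : h.EBˣ} {v : V} (hr : Rf h F Q r v) (hD : Fr D) {e : h.EB} (he : e ∈ D) (hv : h.ap e v = v) :
    DS.Cl.cj h.EB r ∈ St F D := cj_mem_St hr.iso (by rw [hr.val]; exact qr_comm h hD he hv _)

variable (hO : SB.Cl.IsO h F Q)
include hO

theorem exists_rf {v : V} (hv : Q v ≠ 0) : ∃ r, Rf h F Q r v := by
  obtain ⟨r, h1, h2⟩ := exists_reflU hO hv
  exact ⟨r, h1, h2, hv⟩

theorem qr_smul (κ c : K) (v : V) : qr h κ (c • v) = qr h (κ * (c * c)) v := h.ap_ext fun x => by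
  rw [ap_qr, ap_qr, h.smul_right, hO.1, smul_smul]
  congr 2
  ring

theorem O_sub (u v : V) : Q (u - v) = Q u + Q v - h.b u v := by
  rw [sub_eq_add_neg, O_add hO, QuadraticMap.map_neg, ← neg_one_smul K v, h.smul_right, hO.1]
  ring

variable {r k : h.EBˣ} {v w : V}

theorem Rf.smul (hr : Rf h F Q r v) {c : K} (hc : c ≠ 0) : Rf h F Q r (c • v) := by
  have h1 := hr.ne
  refine ⟨hr.iso, ?_, by rw [QuadraticMap.map_smul]; exact mul_ne_zero (mul_ne_zero hc hc) h1⟩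
  rw [hr.val, qr_smul hO, QuadraticMap.map_smul, smul_eq_mul]
  congr 1
  field_simp

theorem Rf.neg (hr : Rf h F Q r v) : h.ap r v = -v := by
  rw [hr.ap, O_self hO, mul_left_comm, inv_mul_cancel₀ hr.ne]
  module

theorem Rf.swap {x y : V} (hr : Rf h F Q r (x - y)) (hQ : Q x = Q y) : h.ap r x = y := by
  have h1 : h.b x (x - y) = Q (x - y) := by rw [h.sub_right, O_sub hO, O_self hO, ← hQ]; ring
  rw [hr.ap, h1, inv_mul_cancel₀ hr.ne, one_smul, sub_sub_cancel]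

theorem Rf.sq (hr : Rf h F Q r v) : r * r = 1 := Units.ext (h.ap_ext fun x => by
  rw [Units.val_mul, h.ap_mul, hr.ap x, map_sub, map_smul, hr.neg hO, hr.ap x, smul_neg, sub_neg_eq_add, sub_add_cancel]
  rfl)

theorem Rf.ap_ap (hr : Rf h F Q r v) (x : V) : h.ap r (h.ap r x) = x := by
  rw [← h.ap_mul, ← Units.val_mul, hr.sq hO]; rfl

theorem Rf.pair (hr : Rf h F Q r v) (hk : Rf h F Q k w) (hQ : Q v = Q w) : DS.Cl.cj h.EB (r * k) ∈ F.S := by
  obtain ⟨g, hg, hgw⟩ := witt_O hO (x := w) (y := v) (fun h0 => hk.ne (by rw [h0, map_zero]))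
    (fun h0 => hr.ne (by rw [h0, map_zero])) hQ.symm
  have h1 : r = g * k * g⁻¹ := Units.ext (by rw [Units.val_mul, Units.val_mul, hk.val, qr_conj h hg.1, hgw, hr.val, hQ])
  refine ⟨⁅g, k⁆, Subgroup.commutator_mem_commutator hg hk.iso, ?_⟩
  rw [commutatorElement_def, ← h1, inv_eq_of_mul_eq_one_right (hk.sq hO)]

theorem Rf.pt (hr : Rf h F Q r v) (hk : Rf h F Q k w) (hQ : Q v = Q w) (hS : DS.Cl.cj h.EB k ∈ St F D) :
    Pt F D r (DS.Cl.cj h.EB (r * k)) :=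
  ⟨hr.pair hO hk hQ, by rw [map_mul, mul_inv_rev, inv_mul_cancel_right]; exact inv_mem hS⟩

theorem Rf.map (hr : Rf h F Q r v) {γ : RingAut h.EB} (hγ : γ ∈ F.Aut) (L : SL h γ) {c : K} (hc : L.g v = c • v) :
    γ r = r := by
  have h1 := L.quad hO hγ v
  have h2 := L.μ_ne
  have h3 := hr.ne
  have h4 : L.σ (Q v) ≠ 0 := by simpa using h3
  rw [hc, QuadraticMap.map_smul, smul_eq_mul] at h1
  rw [hr.val, L.map_qr, hc, qr_smul hO, map_inv₀]
  congr 1
  field_simp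
  linear_combination h1

/-- **the product trick for `v` and `v + x`** -/
theorem keyO {G H : Subgroup (RingAut h.EB)} {m p : ℕ} (c : Ctx F G H m p) (hD : Fr D) (hI : Inv H D) (h2 : (2 : K) ≠ 0)
    {E : h.EB} (hE : E ∈ D) {v x : V} (hx : h.ap E x = x) (hv : h.ap E v = 0) (hQ : Q x = Q v) (h0 : Q v ≠ 0)
    (hρ : ∀ r, Rf h F Q r v → DS.Cl.cj h.EB r ∉ St F D)
    (hk : ∃ k w, Rf h F Q k w ∧ Q w = 2 * Q v ∧ DS.Cl.cj h.EB k ∈ St F D) (hl : LA h D (v + x))
    {X : Finset h.EB} (hX : ∀ f ∈ D, Q (h.ap f (v + x)) = Q v → f ∈ X) {ι : Type} [Fintype ι] {y : ι → V}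
    (hy : Function.Injective y)
    (hs : ∀ i, ∃ u ∈ F.Iso, DS.Cl.cj h.EB u ∈ F.S ∧ DS.Cl.cj h.EB u ∈ St F D ∧ h.ap u v = v ∧ h.ap u x = y i) :
    Fintype.card ι ≤ X.card := by
  have : Nontrivial V := ⟨_, _, hl.ne⟩
  have b1 : h.b v x = 0 := by rw [← hx, ← hD.symm E hE, h.b_star, hv, h.zero_left]
  have b2 : Q (v + x) = 2 * Q v := by rw [O_add hO, b1, hQ]; ring
  have b3 : Q (v + x) ≠ 0 := by rw [b2]; exact mul_ne_zero h2 h0
  have b4 : h.ap E (v + x) = x := by rw [map_add, hx, hv, zero_add]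
  have b5 : ∀ f ∈ D, ∀ z, h.b (h.ap f z) z = 2 * Q (h.ap f z) := fun f hf z => by
    rw [← O_self hO, ← h.b_star f z (h.ap f z), hD.symm f hf, ← h.ap_mul, hD.idem f hf, O_symm hO]
  obtain ⟨r, hr⟩ := exists_rf hO h0
  obtain ⟨r', hr'⟩ := exists_rf hO b3
  obtain ⟨k, hk₁⟩ := exists_rf hO (hQ ▸ h0 : Q x ≠ 0)
  obtain ⟨k', w, hk', hw, hk''⟩ := hk
  have n1 : ∀ z, h.ap (1 - (r' : h.EB)) z = ((Q (v + x))⁻¹ * h.b z (v + x)) • (v + x) := fun z => by
    rw [h.ap_sub, h.ap_one, hr'.ap, sub_sub_cancel]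
  have n2 : (1 - (r' : h.EB)) * E * (1 - r') = 1 - r' := h.ap_ext fun z => by
    rw [h.ap_mul, h.ap_mul, n1 z, map_smul, map_smul, n1, b5 E hE, b4, hQ, ← b2, inv_mul_cancel₀ b3, one_smul]
  have n3 : (r : h.EB) = 1 - ((1 - E) * (1 - r') * (1 - E) + (1 - E) * (1 - r') * (1 - E)) := h.ap_ext fun z => by
    have a1 : h.b (h.ap (1 - E) z) (v + x) = h.b z v := by
      rw [← h.b_star, star_sub, star_one, hD.symm E hE, h.ap_sub, h.ap_one, b4, add_sub_cancel_right]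
    rw [hr.ap, h.ap_sub, h.ap_one, h.ap_add, h.ap_mul, h.ap_mul, n1, a1, map_smul, h.ap_sub, h.ap_one, b4,
      add_sub_cancel_right, ← add_smul, b2]
    congr 2
    field_simp
    ring
  refine key c hI (hr.pt hO hk₁ hQ.symm (hk₁.st hD hE hx)) (hr'.pt hO hk' (b2.trans hw.symm) hk'') (hρ r hr)
    (hl.not_mem (inv_ne_zero b3) hr'.val) (fun γ a1 a2 => ?_) (E := E) (fun γ a1 a2 => ?_) (fun γ a1 a2 => ?_)
    (y := fun i => qr h (Q (v + x))⁻¹ (v + y i)) (fun i j hij => hy ?_) fun i => ?_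
  · obtain ⟨L⟩ := exists_SL h a1.1.1
    obtain ⟨t, ht⟩ := fix_of hl (inv_ne_zero b3) hr'.val a1 a2 L
    exact hr'.map hO a1.1 L ht
  · have a3 := congrArg γ n2
    rw [map_mul, map_mul, map_sub, map_one, a2] at a3
    have a4 := congrArg (fun a => h.ap a (v + x)) a3
    simp only [h.ap_mul] at a4
    rw [n1 (v + x), O_self hO, mul_left_comm, inv_mul_cancel₀ b3, mul_one, map_smul, map_smul, n1,
      b5 _ (St.mem a1 hE), smul_smul] at a4
    have a5 := smul_left_injective K hl.ne a4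
    refine hX _ (St.mem a1 hE) ?_
    rw [b2] at a5
    field_simp at a5
    exact a5
  · rw [n3]
    simp only [map_sub, map_add, map_mul, map_one, a1, a2]
  · have a1 : ∀ i, h.b v (v + y i) = 2 * Q v := fun i => by
      obtain ⟨u, hu, -, -, a2, a3⟩ := hs i
      have a4 := (h.unit_iff u).1 hu.1 v x
      rw [a2, a3, b1] at a4
      rw [h.add_right, a4, O_self hO, add_zero]
    have a2 := congrArg (fun a => h.ap a v) hij
    simp only [ap_qr, a1, sub_right_inj] at a2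
    exact add_left_cancel (smul_right_injective V (mul_ne_zero (inv_ne_zero b3) (mul_ne_zero h2 h0)) a2)
  · obtain ⟨u, hu, a1, a2, a3, a4⟩ := hs i
    refine ⟨_, a1, a2, ?_, ?_⟩
    · rw [cj_apply, hr.val, qr_conj h hu.1, a3]
    · rw [cj_apply, hr'.val, qr_conj h hu.1, map_add (h.ap u), a3, a4]

end Cfsg.Agent.TH.Cl.TorO
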